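import Groth.Agent.Pi1PBC.SliceSection
import Groth.Agent.AlgGrp1.Geom
import Groth.Agent.PiTopGen.Basic
import Mathlib

/-!
# Connected finite etale covers of a proper group scheme with transitive deck transformations

Over an algebraically closed field, such a cover carries a multiplication over that of the base,
and is a group scheme.
-/

universe u

set_option autoImplicit false
set_option backward.isDefEq.respectTransparency false
set_option linter.style.haveILetI false

open CategoryTheory MonoidalCategory CartesianMonoidalCategory MonObj GrpObj AlgebraicGeometry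

namespace Groth.Pi1AbVar

variable {k : Type u} [Field k] [IsAlgClosed k] {A C : Over (Spec (CommRingCat.of k))}
  (φ : C ⟶ A) [IsFinite φ.left] [Etale φ.left]

/-- Rigidity: lifts with connected source agreeing at one rational point are equal. -/
theorem eq_of_point {T : Over (Spec (CommRingCat.of k))} [ConnectedSpace ↥T.left] {g h : T ⟶ C}
    (w : g ≫ φ = h ≫ φ) (p : 𝟙_ (Over (Spec (CommRingCat.of k))) ⟶ T) (hp : p ≫ g = p ≫ h) :
    g = h := by
  ext1
  haveI : Nonempty ↥(𝟙_ (Over (Spec (CommRingCat.of k)))).left :=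
    inferInstanceAs (Nonempty ↥(Spec (CommRingCat.of k)))
  exact Pi1Etale.eq_of_comp_eq_of_connected φ.left g.left h.left (congrArg Over.Hom.left w) p.left
    (congrArg Over.Hom.left hp)

/-- The product of a connected scheme with a rational point and a connected scheme is connected. -/
theorem connectedSpace_tensor {X Y : Over (Spec (CommRingCat.of k))} [LocallyOfFiniteType X.hom]
    [ConnectedSpace ↥X.left] [ConnectedSpace ↥Y.left]
    (p : 𝟙_ (Over (Spec (CommRingCat.of k))) ⟶ X) : ConnectedSpace ↥(X ⊗ Y).left := by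
  haveI := AlgGrp1.geometricallyConnected_of_point X.hom p.left (Over.w p)
  show ConnectedSpace ↥(Limits.pullback X.hom Y.hom)
  infer_instance

variable [GrpObj A] [IsProper A.hom] [ConnectedSpace ↥A.left] [ConnectedSpace ↥C.left]
  (c₀ : 𝟙_ (Over (Spec (CommRingCat.of k))) ⟶ C) (hc₀ : c₀ ≫ φ = η[A])
  (htr : ∀ v : 𝟙_ (Over (Spec (CommRingCat.of k))) ⟶ C, v ≫ φ = η[A] →
    ∃ u : C ⟶ C, u ≫ φ = φ ∧ c₀ ≫ u = v)

include hc₀ htr

/-- A cover with transitive deck transformations carries a multiplication over that of the base. -/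
theorem exists_mul : ∃ mC : C ⊗ C ⟶ C, mC ≫ φ = (φ ⊗ₘ φ) ≫ μ[A] ∧
    lift (toUnit C ≫ c₀) (𝟙 C) ≫ mC = 𝟙 C := by
  haveI : IsProper C.hom := by rw [← Over.w φ]; infer_instance
  haveI : IsLocallyNoetherian A.left := LocallyOfFiniteType.isLocallyNoetherian A.hom
  haveI : IsLocallyNoetherian C.left := LocallyOfFiniteType.isLocallyNoetherian C.hom
  let Cb : FEt.Cat A.left := MorphismProperty.Over.mk ⊤ φ.left ⟨inferInstance, inferInstance⟩
  let ν : Limits.pullback C.hom C.hom ⟶ A.left := ((φ ⊗ₘ φ) ≫ μ[A]).left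
  let R : FEt.Cat (Limits.pullback C.hom C.hom) := (FEt.restrict ν).obj Cb
  have ha : c₀.left ≫ C.hom = 𝟙 _ := Over.w c₀
  let sl : C.left ⟶ Limits.pullback C.hom C.hom := Pi1PBC.slice C.hom C.hom ha
  have hsl : sl = (lift (toUnit C ≫ c₀) (𝟙 C)).left := by
    apply Limits.pullback.hom_ext <;> simp [sl, Pi1PBC.slice]
  have hL : lift (toUnit C ≫ c₀) (𝟙 C) ≫ (φ ⊗ₘ φ) ≫ μ[A] = φ := by
    rw [lift_map_assoc, Category.assoc, hc₀, Category.id_comp, MonObj.lift_comp_one_left]
  have hcond : 𝟙 C.left ≫ φ.left = sl ≫ ν := by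
    rw [hsl, Category.id_comp]
    exact (congrArg Over.Hom.left hL).symm
  let s : C.left ⟶ Limits.pullback φ.left ν := Limits.pullback.lift (𝟙 _) sl hcond
  have hs : s ≫ R.hom = sl := Limits.pullback.lift_snd _ _ _
  -- the family of translates of the cover over the base
  have hη : η[A].left ≫ A.hom = 𝟙 _ := Over.w η[A]
  let Z : FEt.Cat (Limits.pullback A.hom A.hom) := (FEt.restrict μ[A].left).obj Cb
  have hfib : Pi1PBC.fibJ A.hom A.hom η[A].left ≫ μ[A].left = Pi1PBC.fibP A.hom A.hom η[A].left := by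
    have h1 : lift (𝟙 A) (toUnit A ≫ η[A]) ≫ μ[A] = 𝟙 A := MonObj.lift_comp_one_right _ _
    have h2 : Pi1PBC.fibJ A.hom A.hom η[A].left =
        Pi1PBC.fibP A.hom A.hom η[A].left ≫ (lift (𝟙 A) (toUnit A ≫ η[A])).left := by
      apply Limits.pullback.hom_ext
      · simp
      · simp only [Pi1PBC.fibJ_snd, Category.assoc, Over.lift_left, Limits.pullback.lift_snd,
          Over.comp_left, Over.toUnit_left]
        rw [Limits.pullback.condition_assoc]
        simp [hη]
    rw [h2, Category.assoc]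
    exact (congrArg (Pi1PBC.fibP A.hom A.hom η[A].left ≫ ·) (congrArg Over.Hom.left h1)).trans
      (Category.comp_id _)
  have hV : Pi1PBC.Cls A.hom A.hom Z η[A].left Cb :=
    ⟨(Pi1FEt.restrictCongr hfib.symm).app Cb ≪≫ (Pi1FEt.restrictCompIso _ _).app Cb⟩
  have hsec : ∀ (L : Type u) [Field L] [IsAlgClosed L] (t : Spec (CommRingCat.of L) ⟶ C.left),
      ∃ σ, Pi1PBC.IsSec C.hom C.hom (R := R) ha s t σ := by
    intro L _ _ t
    let tA : Spec (CommRingCat.of L) ⟶ A.left := t ≫ φ.left
    obtain ⟨m, hm⟩ := (Pi1PBC.cls_const A.hom A.hom η[A].left tA hV).exists_isTriv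
    let slA : A.left ⟶ Limits.pullback A.hom A.hom := Pi1PBC.slice A.hom A.hom hη
    have hslA : slA ≫ μ[A].left = 𝟙 _ := by
      have h1 : lift (toUnit A ≫ η[A]) (𝟙 A) ≫ μ[A] = 𝟙 A := MonObj.lift_comp_one_left _ _
      have h2 : slA = (lift (toUnit A ≫ η[A]) (𝟙 A)).left := by
        apply Limits.pullback.hom_ext <;> simp [slA, Pi1PBC.slice]
      rw [h2]
      exact congrArg Over.Hom.left h1
    let z : Spec (CommRingCat.of L) ⟶ Z.left := Limits.pullback.lift t (tA ≫ slA)
      (by rw [Category.assoc]; exact (congrArg (tA ≫ ·) hslA).trans (Category.comp_id _) |>.symm)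
    have hz : z ≫ Z.hom = tA ≫ slA := Limits.pullback.lift_snd _ _ _
    haveI := Pi1PBC.connectedSpace_spec L
    obtain ⟨v, hv⟩ := Pi1PBC.exists_corr hη hm hz
    obtain ⟨u, hu, hu₀⟩ := htr (Over.homMk (U := 𝟙_ _) v.1 (by
        rw [← Over.w φ, ← Category.assoc]
        exact (congrArg (· ≫ A.hom) v.2).trans hη)) (by ext1; exact v.2)
    let P := Pi1PBC.fibP C.hom C.hom t
    let ρ : Pi1PBC.fib C.hom C.hom t ⟶ Pi1PBC.fib A.hom A.hom tA :=
      Limits.pullback.lift (P ≫ φ.left) (Limits.pullback.snd C.hom (t ≫ C.hom)) (by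
        simp only [P, tA, Category.assoc, Over.w]
        exact Limits.pullback.condition)
    let n : Pi1PBC.fib C.hom C.hom t ⟶ Limits.pullback Cb.hom (Pi1PBC.fibP A.hom A.hom tA) :=
      Limits.pullback.lift (P ≫ u.left) ρ ((Category.assoc _ _ _).trans
        ((congrArg (P ≫ ·) (congrArg Over.Hom.left hu)).trans (Limits.pullback.lift_fst _ _ _).symm))
    have hρJ : ρ ≫ Pi1PBC.fibJ A.hom A.hom tA = Pi1PBC.fibJ C.hom C.hom t ≫ (φ ⊗ₘ φ).left := by
      apply Limits.pullback.hom_ext
      · simp [ρ, P]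
      · simp [ρ, tA]
    let m' : Pi1PBC.fib C.hom C.hom t ⟶ Z.left := n ≫ m
    let σ₁ : Pi1PBC.fib C.hom C.hom t ⟶ C.left := m' ≫ Limits.pullback.fst φ.left μ[A].left
    have hm' : m' ≫ Z.hom = Pi1PBC.fibJ C.hom C.hom t ≫ (φ ⊗ₘ φ).left := by
      rw [Category.assoc, hm.w, ← Category.assoc, Limits.pullback.lift_snd, hρJ]
    have hσ₁ : σ₁ ≫ φ.left = Pi1PBC.fibJ C.hom C.hom t ≫ ν := by
      refine (Category.assoc _ _ _).trans ((congrArg (m' ≫ ·) Limits.pullback.condition).trans ?_)
      exact (Category.assoc _ _ _).symm.trans ((congrArg (· ≫ μ[A].left) hm').trans (Category.assoc _ _ _))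
    refine ⟨Limits.pullback.lift σ₁ (Pi1PBC.fibJ _ _ t) hσ₁, Limits.pullback.lift_snd _ _ _, ?_⟩
    apply Limits.pullback.hom_ext
    · refine (Category.assoc _ _ _).trans ?_
      rw [Limits.pullback.lift_fst]
      refine Eq.trans ?_ ((Category.assoc t s _).trans
        ((congrArg (t ≫ ·) (Limits.pullback.lift_fst _ _ hcond)).trans (Category.comp_id t))).symm
      have h3 : Pi1PBC.sct ha t ≫ m' = z := by
        refine (Category.assoc _ _ _).symm.trans (Eq.trans ?_ hv)
        refine congrArg (· ≫ m) ?_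
        apply Limits.pullback.hom_ext
        · rw [Category.assoc, Limits.pullback.lift_fst, Limits.pullback.lift_fst,
            show v.1 = c₀.left ≫ u.left from (congrArg Over.Hom.left hu₀).symm]
          simp [P, tA, Pi1PBC.sct]
        · rw [Category.assoc, Limits.pullback.lift_snd, Limits.pullback.lift_snd]
          apply Limits.pullback.hom_ext
          · simp [ρ, P, tA, Pi1PBC.sct, show c₀.left ≫ φ.left = η[A].left from congrArg Over.Hom.left hc₀]
          · simp [ρ, P, tA, Pi1PBC.sct]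
      refine (Category.assoc _ _ _).symm.trans ((congrArg (· ≫ _) h3).trans ?_)
      exact Limits.pullback.lift_fst _ _ _
    · refine (Category.assoc _ _ _).trans ?_
      rw [Limits.pullback.lift_snd, Pi1PBC.sct_fibJ]
      exact ((Category.assoc t s _).trans (congrArg (t ≫ ·) (Limits.pullback.lift_snd _ _ hcond))).symm
  obtain ⟨S, hS, hS'⟩ := Pi1PBC.exists_section_of_slice C.hom C.hom (R := R) ha s hsec hs
  let S₁ : Limits.pullback C.hom C.hom ⟶ C.left := S ≫ Limits.pullback.fst φ.left ν
  have hS₁ : S₁ ≫ φ.left = ν := by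
    refine (Category.assoc _ _ _).trans ((congrArg (S ≫ ·) Limits.pullback.condition).trans ?_)
    exact (Category.assoc _ _ _).symm.trans ((congrArg (· ≫ ν) hS).trans (Category.id_comp _))
  refine ⟨Over.homMk (U := C ⊗ C) S₁ (by
    rw [← Over.w φ, ← Category.assoc]
    exact (congrArg (· ≫ A.hom) hS₁).trans (Over.w ((φ ⊗ₘ φ) ≫ μ[A]))), ?_, ?_⟩
  · ext1; exact hS₁
  · ext1
    show (lift (toUnit C ≫ c₀) (𝟙 C)).left ≫ S₁ = 𝟙 C.left
    rw [← hsl, ← Category.assoc, hS']
    exact Limits.pullback.lift_fst _ _ _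

omit htr in
/-- A multiplication over that of the base with a left unit is a group law. -/
theorem exists_grpObj {mC : C ⊗ C ⟶ C} (hμ : mC ≫ φ = (φ ⊗ₘ φ) ≫ μ[A])
    (hl : lift (toUnit C ≫ c₀) (𝟙 C) ≫ mC = 𝟙 C) : ∃ inst : GrpObj C, IsMonHom φ := by
  haveI : IsProper C.hom := by rw [← Over.w φ]; infer_instance
  have hconst : ∀ {T : Over (Spec (CommRingCat.of k))} (p : 𝟙_ _ ⟶ T),
      p ≫ toUnit T ≫ c₀ = c₀ := fun p => by
    rw [← Category.assoc, toUnit_unique (p ≫ toUnit _) (𝟙 _), Category.id_comp]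
  have h00 : lift c₀ c₀ ≫ mC = c₀ := by
    have h := congrArg (c₀ ≫ ·) hl
    simp only [comp_lift_assoc, hconst, Category.comp_id] at h
    exact h
  have hφ : ∀ {T : Over (Spec (CommRingCat.of k))} (x y : T ⟶ C),
      (lift x y ≫ mC) ≫ φ = (x ≫ φ) * (y ≫ φ) := fun x y => by
    rw [Category.assoc, hμ, lift_map_assoc, Hom.mul_def]
  have hone : ∀ (T : Over (Spec (CommRingCat.of k))), (toUnit T ≫ c₀) ≫ φ = (1 : T ⟶ A) := fun T => by
    rw [Category.assoc, hc₀, Hom.one_def]
  have hr : lift (𝟙 C) (toUnit C ≫ c₀) ≫ mC = 𝟙 C := by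
    refine eq_of_point φ ?_ c₀ ?_
    · rw [hφ, hone, _root_.mul_one]
    · rw [comp_lift_assoc, hconst, Category.comp_id, h00]
  haveI := connectedSpace_tensor (Y := C) c₀
  haveI : IsProper (C ⊗ C).hom := by
    show IsProper (Limits.pullback.fst C.hom C.hom ≫ C.hom)
    infer_instance
  haveI := connectedSpace_tensor (X := C ⊗ C) (Y := C) (lift c₀ c₀)
  have hassoc : mC ▷ C ≫ mC = (α_ C C C).hom ≫ C ◁ mC ≫ mC := by
    have e1 : mC ▷ C ≫ mC = lift (lift (fst _ _ ≫ fst C C) (fst _ _ ≫ snd C C) ≫ mC) (snd (C ⊗ C) C) ≫ mC := by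
      congr 1
      ext1 <;> simp [← comp_lift, lift_fst_snd]
    have e2 : (α_ C C C).hom ≫ C ◁ mC ≫ mC =
        lift (fst _ _ ≫ fst C C) (lift (fst _ _ ≫ snd C C) (snd (C ⊗ C) C) ≫ mC) ≫ mC := by
      rw [← Category.assoc]
      congr 1
      ext1
      · simp
      · simp only [Category.assoc, whiskerLeft_snd, lift_snd]
        rw [← Category.assoc]
        congr 1
        ext1 <;> simp
    rw [e1, e2]
    refine eq_of_point φ ?_ (lift (lift c₀ c₀) c₀) ?_
    · simp only [hφ, _root_.mul_assoc]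
    · simp only [comp_lift_assoc, lift_fst_assoc, lift_snd_assoc, lift_fst, lift_snd, h00]
  -- the inverse
  let shA : A ⊗ A ⟶ A ⊗ A := lift (fst A A) μ[A]
  let shC : C ⊗ C ⟶ C ⊗ C := lift (fst C C) mC
  have hfst : fst A A * snd A A = μ[A] := by rw [Hom.mul_def, lift_fst_snd, Category.id_comp]
  haveI : IsIso shA := by
    refine ⟨lift (fst A A) ((fst A A)⁻¹ * snd A A), ?_, ?_⟩
    · ext1
      · simp [shA]
      · simp [shA, MonObj.comp_mul, GrpObj.comp_inv, ← hfst]
    · ext1
      · simp [shA]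
      · simp [shA, ← hfst, MonObj.comp_mul]
  have hsh : shC ≫ (φ ⊗ₘ φ) = (φ ⊗ₘ φ) ≫ shA := by
    ext1
    · simp [shC, shA]
    · simp [shC, shA, hμ]
  haveI : IsFinite (φ ⊗ₘ φ).left :=
    MorphismProperty.pullbackMap (P := @IsFinite) (i₁ := φ.left) (i₂ := φ.left) ‹_› ‹_›
      (Over.w φ).symm (Over.w φ).symm
  haveI : Etale (φ ⊗ₘ φ).left :=
    MorphismProperty.pullbackMap (P := @Etale) (i₁ := φ.left) (i₂ := φ.left) ‹_› ‹_›
      (Over.w φ).symm (Over.w φ).symm
  haveI : IsIso shA.left := inferInstanceAs (IsIso ((Over.forget _).map shA))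
  have hsh' : shC.left ≫ (φ ⊗ₘ φ).left = (φ ⊗ₘ φ).left ≫ shA.left := congrArg Over.Hom.left hsh
  haveI : IsFinite (shC.left ≫ (φ ⊗ₘ φ).left) := hsh' ▸ inferInstance
  haveI : Etale (shC.left ≫ (φ ⊗ₘ φ).left) := hsh' ▸ inferInstance
  haveI : IsFinite shC.left := IsFinite.of_comp shC.left (φ ⊗ₘ φ).left
  haveI : Etale shC.left := Etale.of_comp shC.left (φ ⊗ₘ φ).left
  haveI : IsIso shC.left := by
    let q : Spec (CommRingCat.of k) ⟶ (C ⊗ C).left := (lift c₀ c₀).left
    let B : FEt.Cat (C ⊗ C).left :=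
      MorphismProperty.Over.mk ⊤ shC.left ⟨inferInstance, inferInstance⟩
    let one : FEt.Cat (C ⊗ C).left :=
      MorphismProperty.Over.mk ⊤ (𝟙 _) ⟨inferInstance, inferInstance⟩
    let f : B ⟶ one := MorphismProperty.Over.homMk shC.left (Category.comp_id _)
    suffices IsIso ((FEt.restrict q).map f) by
      haveI := Pi1FEt.isIso_of_isIso_restrict q f
      exact inferInstanceAs (IsIso ((MorphismProperty.Over.forget FEt.prop ⊤ _ ⋙ Over.forget _).map f))
    let f' := ((FEt.restrict q).map f).left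
    haveI : IsFinite f' := Pi1FEt.isFinite_left _
    haveI : Etale f' := Pi1FEt.etale_left _
    haveI : IsIso f' := by
      refine Pi1PBC.isIso_of_geomPoints f' (fun L _ _ ξ₁ ξ₂ e => ?_) (fun L _ _ ξ => ?_)
      · have hb : ∀ ξ : Spec (CommRingCat.of L) ⟶ Limits.pullback B.hom q,
            ξ ≫ Limits.pullback.fst B.hom q = (ξ ≫ Limits.pullback.snd B.hom q) ≫ q := by
          intro ξ
          haveI := Pi1PBC.connectedSpace_spec L
          obtain ⟨v, hv⟩ := Pi1PBC.exists_constPoint q B (ξ ≫ Limits.pullback.snd B.hom q)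
            (ξ ≫ Limits.pullback.fst B.hom q) (by
              rw [Category.assoc, Category.assoc, Limits.pullback.condition])
          have hv0 : v.1 ≫ (C ⊗ C).hom = 𝟙 _ := by
            rw [← Over.w shC, ← Category.assoc]
            exact (congrArg (· ≫ (C ⊗ C).hom) v.2).trans (Over.w (lift c₀ c₀))
          let w : 𝟙_ (Over (Spec (CommRingCat.of k))) ⟶ C ⊗ C := Over.homMk (U := 𝟙_ _) v.1 hv0
          have hw : w ≫ shC = lift c₀ c₀ := Over.OverMorphism.ext v.2
          have hw1 : w ≫ fst C C = c₀ := by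
            have h := congrArg (· ≫ fst C C) hw
            simpa [shC] using h
          have hw2 : w ≫ mC = c₀ := by
            have h := congrArg (· ≫ snd C C) hw
            simpa [shC] using h
          have hw3 : w = lift c₀ (w ≫ snd C C) := by ext1 <;> simp [hw1]
          have hw4 : lift c₀ (w ≫ snd C C) ≫ mC = w ≫ snd C C := by
            have h := congrArg ((w ≫ snd C C) ≫ ·) hl
            simp only [comp_lift_assoc, Category.comp_id] at h
            rw [← Category.assoc, toUnit_unique ((w ≫ snd C C) ≫ toUnit C) (𝟙 _), Category.id_comp] at h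
            exact h
          have hw5 : w ≫ snd C C = c₀ := by rw [← hw4, ← hw3, hw2]
          have hw6 : w = lift c₀ c₀ := by rw [hw3, hw5]
          rw [hv]
          exact congrArg (_ ≫ ·) (congrArg Over.Hom.left hw6)
        have es : ξ₁ ≫ Limits.pullback.snd B.hom q = ξ₂ ≫ Limits.pullback.snd B.hom q := by
          have h := congrArg (· ≫ Limits.pullback.snd one.hom q) e
          simp only [Category.assoc] at h
          rw [show f' ≫ Limits.pullback.snd one.hom q = Limits.pullback.snd B.hom q from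
            MorphismProperty.Over.w _] at h
          exact h
        apply Limits.pullback.hom_ext
        · rw [hb, hb, es]
        · exact es
      · have hq : q ≫ shC.left = q := by
          have h : lift c₀ c₀ ≫ shC = lift c₀ c₀ := by ext1 <;> simp [shC, h00]
          exact congrArg Over.Hom.left h
        let r := ξ ≫ Limits.pullback.snd one.hom q
        refine ⟨Limits.pullback.lift (r ≫ q) r ((Category.assoc _ _ _).trans (congrArg (r ≫ ·) hq)), ?_⟩
        apply Limits.pullback.hom_ext
        · rw [Category.assoc, Pi1FEt.restrict_map_left_fst, ← Category.assoc, Limits.pullback.lift_fst,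
            Category.assoc]
          exact (congrArg (r ≫ ·) hq).trans ((Category.assoc _ _ _).trans
            ((congrArg (ξ ≫ ·) Limits.pullback.condition.symm).trans
              (congrArg (ξ ≫ ·) (Category.comp_id _))))
        · rw [Category.assoc, show f' ≫ Limits.pullback.snd one.hom q = Limits.pullback.snd B.hom q from
            MorphismProperty.Over.w _]
          exact Limits.pullback.lift_snd _ _ _
    haveI : IsIso ((MorphismProperty.Over.forget FEt.prop ⊤ _ ⋙ Over.forget _).map ((FEt.restrict q).map f)) :=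
      ‹IsIso f'›
    exact isIso_of_reflects_iso _ (MorphismProperty.Over.forget FEt.prop ⊤ _ ⋙ Over.forget _)
  haveI : IsIso shC := by
    haveI : IsIso ((Over.forget _).map shC) := ‹IsIso shC.left›
    exact isIso_of_reflects_iso shC (Over.forget _)
  let iC : C ⟶ C := lift (𝟙 C) (toUnit C ≫ c₀) ≫ inv shC ≫ snd C C
  have hι : lift (𝟙 C) iC ≫ shC = lift (𝟙 C) (toUnit C ≫ c₀) := by
    let j := lift (𝟙 C) (toUnit C ≫ c₀) ≫ inv shC
    have hj : j ≫ shC = lift (𝟙 C) (toUnit C ≫ c₀) := by simp [j]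
    have : j = lift (𝟙 C) iC := by
      ext1
      · have h := congrArg (· ≫ fst C C) hj
        simpa [shC] using h
      · simp [j, iC]
    rw [← this, hj]
  have hinv : lift (𝟙 C) iC ≫ mC = toUnit C ≫ c₀ := by
    have h := congrArg (· ≫ snd C C) hι
    simpa [shC] using h
  have hι0 : c₀ ≫ iC = c₀ := by
    have hq : lift c₀ c₀ ≫ inv shC = lift c₀ c₀ := by
      rw [IsIso.comp_inv_eq]
      ext1 <;> simp [shC, h00]
    rw [comp_lift_assoc, hconst, Category.comp_id, reassoc_of% hq, lift_snd]
  have hinvl : lift iC (𝟙 C) ≫ mC = toUnit C ≫ c₀ := by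
    refine eq_of_point φ ?_ c₀ ?_
    · have h := congrArg (· ≫ φ) hinv
      simp only [hφ, hone, Category.id_comp] at h ⊢
      rw [← inv_eq_of_mul_eq_one_right h, inv_mul_cancel]
    · rw [comp_lift_assoc, hconst, hι0, Category.comp_id, h00]
  letI : MonObj C :=
    { one := c₀
      mul := mC
      one_mul := by
        have e : c₀ ▷ C = (λ_ C).hom ≫ lift (toUnit C ≫ c₀) (𝟙 C) := by
          ext1
          · rw [whiskerRight_fst, Category.assoc, lift_fst, ← Category.assoc]
            exact congrArg (fun f => f ≫ c₀) (toUnit_unique _ _)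
          · rw [whiskerRight_snd, Category.assoc, lift_snd, Category.comp_id, leftUnitor_hom]
        rw [e, Category.assoc, hl, Category.comp_id]
      mul_one := by
        have e : C ◁ c₀ = (ρ_ C).hom ≫ lift (𝟙 C) (toUnit C ≫ c₀) := by
          ext1
          · rw [whiskerLeft_fst, Category.assoc, lift_fst, Category.comp_id, rightUnitor_hom]
          · rw [whiskerLeft_snd, Category.assoc, lift_snd, ← Category.assoc]
            exact congrArg (fun f => f ≫ c₀) (toUnit_unique _ _)
        rw [e, Category.assoc, hr, Category.comp_id]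
      mul_assoc := hassoc }
  refine ⟨{ (inferInstance : MonObj C) with inv := iC, left_inv := hinvl, right_inv := hinv }, ?_⟩
  constructor
  · exact hc₀
  · exact hμ

end Groth.Pi1AbVar
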